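import Mathlib
import Cfsg.Prelude.Def_Classical
import Cfsg.Prelude.Def_Exceptional
import Cfsg.Agent.Walter.LastCase_mg_m3
import Cfsg.Agent.SmallSimple.SylowEight
import Cfsg.Agent.LieClassical.SmallIso
import Cfsg.Agent.TwoFusion.S4FreeFunctor
import Cfsg.Agent.Lib.Involves
import Cfsg.Agent.LFourB.RelExt
import Cfsg.Agent.FastGrp
import Cfsg.Agent.Prune
set_option linter.all false
prune_inst 0x7f00000000000000000000000000000000000000000000000000000000000000000000000000000000000000000000000000000000000000000000000000000000000000000000000000000000000000003fffffffffffffffffffffffffffbeffbdffffffff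
open scoped Cfsg.Agent.FastGrp

-- part: H502/RealThree
section
/-!
# Real elements of order three in `PSL₂(q)` and `PSU₃(2^n)`

* `sl_real`: `x = [0,-1;1,-1]`, `y = [a,c-a;c,-a]` with `a² - a c + c² = -1`: `x³ = 1`, `y x y⁻¹ = x⁻¹`.
* `exists_norm`: the equation is solvable unless `q` is an odd power of `3`.
* `psl_real`, `psu_real`: nontrivial elements of order three inverted by an element.
* `exists_real_of_act`: an element `t` with `t² = 1` acting nontrivially on a subgroup inverts a nontrivial element of it.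
-/

set_option autoImplicit false

namespace Cfsg.Agent.H502.RealThree

open Matrix Subgroup

section SL

variable {F : Type*} [Field F]

/-- The element of order three. -/
def xx (F : Type*) [Field F] : _root_.Matrix.SpecialLinearGroup (Fin 2) F :=
  ⟨!![0, -1; 1, -1], by simp [det_fin_two]⟩

/-- The inverting element. -/
def yy (a c : F) (h : a * a - a * c + c * c = -1) : _root_.Matrix.SpecialLinearGroup (Fin 2) F :=
  ⟨!![a, c - a; c, -a], by
    rw [det_fin_two]
    simp only [of_apply, cons_val', cons_val_zero, cons_val_one, cons_val_fin_one]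
    linear_combination -h⟩

theorem coe_xx : (xx F : Matrix (Fin 2) (Fin 2) F) = !![0, -1; 1, -1] := rfl

theorem coe_yy (a c : F) (h : a * a - a * c + c * c = -1) :
    (yy a c h : Matrix (Fin 2) (Fin 2) F) = !![a, c - a; c, -a] := rfl

theorem xx_pow : (xx F) ^ 3 = 1 := by
  rw [pow_succ, pow_two]
  apply Matrix.SpecialLinearGroup.ext
  intro i j
  rw [Matrix.SpecialLinearGroup.coe_mul, Matrix.SpecialLinearGroup.coe_mul, coe_xx, Matrix.SpecialLinearGroup.coe_one]
  (revert i j; simp only [_root_.Fin.forall_fin_succ, _root_.Matrix.cons_mul, _root_.Nat.succ_eq_add_one, Nat.reduceAdd, _root_.Matrix.vecMul_cons, _root_.Matrix.head_cons, _root_.zero_smul, _root_.Matrix.tail_cons, _root_.neg_smul, _root_.one_smul, _root_.Matrix.neg_cons, _root_.neg_neg, _root_.Matrix.neg_empty, _root_.Matrix.empty_vecMul, _root_.add_zero, _root_.zero_add, _root_.Matrix.add_cons, _root_.neg_add_cancel, _root_.Matrix.empty_add_empty, _root_.Matrix.empty_mul, _root_.Equiv.symm_apply_apply, _root_.neg_zero,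 _root_.add_neg_cancel, _root_.Matrix.of_apply, _root_.Matrix.cons_val', _root_.Matrix.cons_val_fin_one, Fin.isValue, _root_.Matrix.cons_val_zero, _root_.Matrix.cons_val_succ, _root_.IsEmpty.forall_iff, _root_.and_true, _root_.Matrix.one_apply_eq, _root_.Fin.succ_zero_eq_one, _root_.ne_eq, _root_.zero_ne_one, _root_.not_false_eq_true, _root_.Matrix.one_apply_ne, _root_.and_self, _root_.Fin.succ_ne_zero, _root_.true_and])

theorem yy_mul_xx (a c : F) (h : a * a - a * c + c * c = -1) :
    yy a c h * xx F * (yy a c h)⁻¹ = (xx F)⁻¹ := by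
  rw [mul_inv_eq_iff_eq_mul, eq_inv_mul_iff_mul_eq]
  apply Matrix.SpecialLinearGroup.ext
  intro i j
  rw [Matrix.SpecialLinearGroup.coe_mul, Matrix.SpecialLinearGroup.coe_mul, coe_xx, coe_yy]
  (revert i j; simp only [_root_.Fin.forall_fin_succ, _root_.Matrix.cons_mul, _root_.Nat.succ_eq_add_one, Nat.reduceAdd, _root_.Matrix.vecMul_cons, _root_.Matrix.head_cons, _root_.Matrix.smul_cons, _root_.smul_eq_mul, _root_.MulZeroClass.mul_zero, _root_.mul_neg, _root_.mul_one, _root_.Matrix.smul_empty, _root_.Matrix.tail_cons, _root_.neg_sub, _root_.Matrix.empty_vecMul, _root_.add_zero, _root_.Matrix.add_cons, _root_.zero_add, _root_.Matrix.empty_add_empty, _root_.neg_smul, _root_.Matrix.neg_cons, _root_.neg_neg, _root_.Matrix.neg_empty, _root_.Matrix.empty_mul, _root_.Equiv.symm_apply_apply, _root_.zero_smul, _root_.one_smul, _root_.neg_add_rev, _root_.sub_add_cancel, _root_.Matrix.of_apply, _root_.Matrix.cons_val', _root_.Matrix.cons_val_fin_one, Fin.isValue, _root_.Matrix.cons_val_zero,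 _root_.Matrix.cons_val_succ, _root_.forall_const, _root_.true_and]) <;> (repeat' with_reducible apply And.intro) <;> ring

theorem xx_not_mem_center : xx F ∉ center (_root_.Matrix.SpecialLinearGroup (Fin 2) F) := by
  intro h
  let u : _root_.Matrix.SpecialLinearGroup (Fin 2) F := ⟨!![1, 1; 0, 1], by simp [det_fin_two]⟩
  have hu : (u : Matrix (Fin 2) (Fin 2) F) = !![1, 1; 0, 1] := rfl
  have h1 := Subgroup.mem_center_iff.mp h u
  have h2 := congrArg (fun M : _root_.Matrix.SpecialLinearGroup (Fin 2) F => (M : Matrix (Fin 2) (Fin 2) F) 0 0) h1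
  simp only [Matrix.SpecialLinearGroup.coe_mul, coe_xx, hu] at h2
  simp at h2

/-- `a² - a c + c² = -1` is solvable in a finite field unless its order is an odd power of three. -/
theorem exists_norm (F : Type*) [Field F] [Fintype F]
    (h : (3 : F) ≠ 0 ∨ IsSquare (-1 : F)) : ∃ a c : F, a * a - a * c + c * c = -1 := by
  classical
  rcases h with h3 | ⟨r, hr⟩
  · by_cases h2 : (2 : F) = 0
    · refine ⟨1, 0, ?_⟩
      have : (1 : F) = -1 := by
        rw [eq_neg_iff_add_eq_zero, one_add_one_eq_two]; exact h2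
      simpa using this
    · have hodd : Fintype.card F % 2 = 1 := by
        apply FiniteField.odd_card_of_char_ne_two
        intro hc
        apply h2
        have := ringChar.spec F 2
        rw [hc] at this
        exact_mod_cast this.mpr dvd_rfl
      obtain ⟨u, v, huv⟩ := FiniteField.exists_root_sum_quadratic
        (f := (Polynomial.X ^ 2 : Polynomial F))
        (g := (Polynomial.C (3 / 4 : F) * Polynomial.X ^ 2 + Polynomial.C 1 : Polynomial F))
        (by simp only [_root_.Polynomial.degree_pow, _root_.Polynomial.degree_X, _root_.nsmul_eq_mul, _root_.Nat.cast_ofNat, _root_.mul_one])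
        (by
          have h4 : (3 / 4 : F) ≠ 0 := by
            have : (4 : F) ≠ 0 := by
              have : (4 : F) = 2 * 2 := by norm_num
              rw [this]; exact mul_ne_zero h2 h2
            exact div_ne_zero h3 this
          rw [Polynomial.degree_add_C, Polynomial.degree_C_mul_X_pow 2 h4]
          · rfl
          · rw [Polynomial.degree_C_mul_X_pow 2 h4]; norm_num) hodd
      simp only [Polynomial.eval_pow, Polynomial.eval_X, Polynomial.eval_add, Polynomial.eval_mul,
        Polynomial.eval_C] at huv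
      refine ⟨u + v / 2, v, ?_⟩
      have h4 : (2 : F) * (v / 2) = v := by field_simp
      have h5 : (4 : F) ≠ 0 := by
        have : (4 : F) = 2 * 2 := by norm_num
        rw [this]; exact mul_ne_zero h2 h2
      field_simp at huv ⊢
      linear_combination huv
  · by_cases h3 : (3 : F) = 0
    · refine ⟨r, 0, ?_⟩
      simp only [mul_zero, sub_zero, add_zero]
      exact hr.symm
    · refine ⟨r, 0, ?_⟩
      simp only [mul_zero, sub_zero, add_zero]
      exact hr.symm

/-- `PSL₂(F)` has a real element of order three. -/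
theorem psl_real (F : Type*) [Field F] [Fintype F] (h : (3 : F) ≠ 0 ∨ IsSquare (-1 : F)) :
    ∃ x y : ProjectiveSpecialLinearGroup (Fin 2) F, x ≠ 1 ∧ x ^ 3 = 1 ∧ y * x * y⁻¹ = x⁻¹ := by
  obtain ⟨a, c, hac⟩ := exists_norm F h
  refine ⟨QuotientGroup.mk (xx F), QuotientGroup.mk (yy a c hac), ?_, ?_, ?_⟩
  · rw [Ne, QuotientGroup.eq_one_iff]
    exact xx_not_mem_center
  · rw [← QuotientGroup.mk_pow, xx_pow]; rfl
  · rw [← QuotientGroup.mk_mul, ← QuotientGroup.mk_inv, ← QuotientGroup.mk_mul, yy_mul_xx]; rfl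

end SL

section SU

variable {F : Type*} [Field F]

/-- A permutation matrix in characteristic two, as an element of `SL₃`. -/
def perm3 (h2 : (2 : F) = 0) (σ : Equiv.Perm (Fin 3)) : _root_.Matrix.SpecialLinearGroup (Fin 3) F :=
  ⟨σ.permMatrix F, by
    rw [det_permutation]
    have h1 : (-1 : F) = 1 := by
      rw [neg_eq_iff_add_eq_zero, one_add_one_eq_two]; exact h2
    rcases Int.units_eq_one_or (Equiv.Perm.sign σ) with h | h <;> rw [h] <;> simp [h1]⟩

theorem perm3_mem (h2 : (2 : F) = 0) (σ : Equiv.Perm (Fin 3)) (q : ℕ) :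
    perm3 h2 σ ∈ Cfsg.SU 3 F q := by
  intro u v
  change Cfsg.hermForm 3 F q ((σ.permMatrix F) *ᵥ u) ((σ.permMatrix F) *ᵥ v) = _
  rw [Matrix.permMatrix_mulVec, Matrix.permMatrix_mulVec]
  unfold Cfsg.hermForm
  exact Equiv.sum_comp σ (fun i => u i * v i ^ q)

theorem perm3_mul (h2 : (2 : F) = 0) (σ τ : Equiv.Perm (Fin 3)) :
    perm3 h2 (σ * τ) = perm3 h2 τ * perm3 h2 σ := by
  apply Matrix.SpecialLinearGroup.ext
  intro i j
  rw [Matrix.SpecialLinearGroup.coe_mul]
  change (σ * τ).permMatrix F i j = ((τ.permMatrix F) * (σ.permMatrix F)) i j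
  rw [Matrix.permMatrix_mul]

theorem perm3_one (h2 : (2 : F) = 0) : perm3 h2 (1 : Equiv.Perm (Fin 3)) = 1 := by
  apply Matrix.SpecialLinearGroup.ext
  intro i j
  change (1 : Equiv.Perm (Fin 3)).permMatrix F i j = _
  rw [Matrix.permMatrix_one]
  rfl

/-- `PSU₃(q)`, `q` even, has a real element of order three. -/
theorem psu_real (h2 : (2 : F) = 0) (q : ℕ) :
    ∃ x y : Cfsg.PSU 3 F q, x ≠ 1 ∧ x ^ 3 = 1 ∧ y * x * y⁻¹ = x⁻¹ := by
  let σ : Equiv.Perm (Fin 3) := finRotate 3
  let τ : Equiv.Perm (Fin 3) := Equiv.swap 0 1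
  let x : Cfsg.SU 3 F q := ⟨perm3 h2 σ, perm3_mem h2 σ q⟩
  let y : Cfsg.SU 3 F q := ⟨perm3 h2 τ, perm3_mem h2 τ q⟩
  have hx3 : x ^ 3 = 1 := by
    apply Subtype.ext
    change (perm3 h2 σ) ^ 3 = 1
    rw [pow_succ, pow_two, ← perm3_mul, ← perm3_mul, ← perm3_one h2]
    congr 1
    decide
  have hyx : y * x * y⁻¹ = x⁻¹ := by
    rw [mul_inv_eq_iff_eq_mul, eq_inv_mul_iff_mul_eq]
    apply Subtype.ext
    change perm3 h2 σ * (perm3 h2 τ * perm3 h2 σ) = perm3 h2 τ
    rw [← perm3_mul, ← perm3_mul]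
    congr 1
    decide
  refine ⟨QuotientGroup.mk x, QuotientGroup.mk y, ?_, ?_, ?_⟩
  · rw [Ne, QuotientGroup.eq_one_iff]
    intro h
    have h1 := congrArg Subtype.val (Subgroup.mem_center_iff.mp h y)
    change perm3 h2 τ * perm3 h2 σ = perm3 h2 σ * perm3 h2 τ at h1
    rw [← perm3_mul, ← perm3_mul] at h1
    have h3 := congrArg (fun M : _root_.Matrix.SpecialLinearGroup (Fin 3) F => (M : Matrix (Fin 3) (Fin 3) F) 0 0) h1
    change (σ * τ).permMatrix F 0 0 = (τ * σ).permMatrix F 0 0 at h3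
    simp only [Equiv.Perm.permMatrix, Equiv.toPEquiv_apply, PEquiv.toMatrix_apply, Option.mem_some_iff] at h3
    have h4 : (σ * τ) 0 = 2 := by decide
    have h5 : (τ * σ) 0 = 0 := by decide
    rw [h4, h5] at h3
    simp at h3
  · rw [← QuotientGroup.mk_pow, hx3]; rfl
  · rw [← QuotientGroup.mk_mul, ← QuotientGroup.mk_inv, ← QuotientGroup.mk_mul, hyx]; rfl

end SU

/-- An element `t` with `t² = 1` normalising but not centralising the subgroup `Q` inverts a nontrivial
element of `Q`. -/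
theorem exists_real_of_act {G : Type*} [Group G] {t : G} (ht : t * t = 1) {Q : Subgroup G}
    (hn : ∀ q ∈ Q, t * q * t⁻¹ ∈ Q) (hc : ∃ q ∈ Q, t * q ≠ q * t) :
    ∃ x ∈ Q, x ≠ 1 ∧ t * x * t⁻¹ = x⁻¹ := by
  obtain ⟨q, hq, hqt⟩ := hc
  have hti : t⁻¹ = t := inv_eq_of_mul_eq_one_right ht
  refine ⟨q⁻¹ * (t * q * t⁻¹), mul_mem (inv_mem hq) (hn q hq), ?_, ?_⟩
  · intro h
    apply hqt
    rw [inv_mul_eq_one, eq_mul_inv_iff_mul_eq] at h
    exact h.symm
  · rw [hti]
    have h1 : t * (q⁻¹ * (t * q * t)) * t = (t * q⁻¹ * t) * q * (t * t) := by group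
    rw [h1, ht, mul_one, _root_.mul_inv_rev, _root_.mul_inv_rev, _root_.mul_inv_rev, hti, inv_inv]
    group

end Cfsg.Agent.H502.RealThree
end

-- part: H502/RealThreeList
section
/-!
# Real elements of order three in the Goldschmidt groups

* `of_pow`: a real element of `3`-power order gives a real element of order three.
* `of_jr`: groups of Janko-Ree type have a real element of order three.
* `of_wType`: a simple group with abelian Sylow 2-subgroups has a real element of order three or is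
  `PSL₂(3^(2f+1))`, `f ≥ 1`.
-/

set_option autoImplicit false

namespace Cfsg.Agent.H502.RealThree

open Subgroup Cfsg
open Cfsg.Agent.Walter.Types Cfsg.Agent.Walter.Main

universe u

/-- There is a real element of order three. -/
def HasReal (G : Type*) [Group G] : Prop := ∃ x y : G, orderOf x = 3 ∧ y * x * y⁻¹ = x⁻¹

theorem HasReal.map {G H : Type*} [Group G] [Group H] (f : G →* H) (hf : Function.Injective f)
    (h : HasReal G) : HasReal H := by
  obtain ⟨x, y, h1, h2⟩ := h
  refine ⟨f x, f y, by rw [orderOf_injective f hf, h1], ?_⟩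
  rw [← map_inv, ← map_mul, ← map_mul, h2, map_inv]

/-- A nontrivial real element of order a power of three gives one of order three. -/
theorem of_pow {G : Type*} [Group G] {x y : G} (hx : x ≠ 1) {k : ℕ} (hk : x ^ 3 ^ k = 1)
    (h : y * x * y⁻¹ = x⁻¹) : HasReal G := by
  obtain ⟨j, -, hj⟩ := (Nat.dvd_prime_pow Nat.prime_three).mp (orderOf_dvd_of_pow_eq_one hk)
  have hj0 : j ≠ 0 := by
    rintro rfl
    rw [pow_zero, orderOf_eq_one_iff] at hj
    exact hx hj
  refine ⟨x ^ 3 ^ (j - 1), y, ?_, ?_⟩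
  · rw [orderOf_pow_of_dvd (by positivity) (by rw [hj]; exact pow_dvd_pow 3 (Nat.sub_le j 1)), hj]
    have h1 : 3 ^ j = 3 ^ (j - 1) * 3 := by
      rw [← pow_succ, Nat.sub_add_cancel (Nat.one_le_iff_ne_zero.mpr hj0)]
    rw [h1, Nat.mul_div_cancel_left _ (by positivity)]
  · rw [← conj_pow, h, inv_pow]

theorem of_three {G : Type*} [Group G] (h : ∃ x y : G, x ≠ 1 ∧ x ^ 3 = 1 ∧ y * x * y⁻¹ = x⁻¹) :
    HasReal G := by
  obtain ⟨x, y, h1, h2, h3⟩ := h
  exact of_pow h1 (k := 1) (by rw [pow_one, h2]) h3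

/-- An odd power of three. -/
theorem odd_pow_of {F : Type*} [Field F] [Fintype F] (h : ¬ ((3 : F) ≠ 0 ∨ IsSquare (-1 : F))) :
    ∃ f : ℕ, Fintype.card F = 3 ^ (2 * f + 1) := by
  push Not at h
  obtain ⟨h3, hsq⟩ := h
  obtain ⟨p, hp⟩ := CharP.exists F
  obtain ⟨m, hpp, hm⟩ := FiniteField.card F p
  have hp3 : p = 3 := by
    have : p ∣ 3 := (CharP.cast_eq_zero_iff F p 3).mp (by exact_mod_cast h3)
    exact (Nat.prime_dvd_prime_iff_eq hpp Nat.prime_three).mp this
  subst hp3
  have h4 : Fintype.card F % 4 = 3 := by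
    by_contra hcon
    exact hsq (FiniteField.isSquare_neg_one_iff.mpr hcon)
  rcases Nat.even_or_odd' (m : ℕ) with ⟨j, hj | hj⟩
  · exfalso
    rw [hm, hj, pow_mul] at h4
    have : (3 ^ 2) ^ j % 4 = 1 := by
      rw [Nat.pow_mod]; norm_num
    omega
  · exact ⟨j, by rw [hm, hj]⟩

/-- Groups of Janko-Ree type have a real element of order three. -/
theorem of_jr (hC : CentThm.{u}) {G : Type u} [Group G] [Finite G] [IsSimpleGroup G]
    (hna : ¬ IsMulCommutative G) (h : IsJR G) : HasReal G := by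
  have h2 : Fact (Nat.Prime 2) := ⟨Nat.prime_two⟩
  obtain ⟨S⟩ : Nonempty (Sylow 2 G) := inferInstance
  obtain ⟨⟨S₀, hS₀, hS₀2⟩, F, i1, i2, hmod, hq, hc⟩ := h
  have hsyl : ∀ P : Sylow 2 G, Nat.card P = 8 ∧ ∀ x ∈ P, x * x = 1 := by
    intro P
    let e := P.equiv S₀
    refine ⟨by rw [Nat.card_congr e.toEquiv]; exact hS₀, fun x hx => ?_⟩
    have h3 := hS₀2 _ (e ⟨x, hx⟩).2
    have h4 : e ⟨x, hx⟩ * e ⟨x, hx⟩ = 1 := Subtype.ext h3
    rw [← map_mul, ← map_one e] at h4
    exact congrArg Subtype.val (e.injective h4)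
  have hab : ∀ P : Sylow 2 G, ∀ a b : P, a * b = b * a := by
    intro P a b
    have h3 := (hsyl P).2 _ (mul_mem a.2 b.2)
    have ha := (hsyl P).2 _ a.2
    have hb := (hsyl P).2 _ b.2
    apply Subtype.ext
    calc (a : G) * b = ((a : G) * b)⁻¹ := (inv_eq_of_mul_eq_one_right h3).symm
      _ = (b : G)⁻¹ * (a : G)⁻¹ := mul_inv_rev _ _
      _ = b * a := by rw [inv_eq_of_mul_eq_one_right ha, inv_eq_of_mul_eq_one_right hb]
  have h8 : Nat.card (S : Subgroup G) = 8 := (hsyl S).1
  have h8d : 8 ∣ Nat.card G := h8 ▸ (S : Subgroup G).card_subgroup_dvd_card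
  have h16 : ¬ 16 ∣ Nat.card G := by
    intro h
    have h3 := (S : Subgroup G).card_mul_index
    rw [h8] at h3
    have h4 := S.not_dvd_index
    apply h4
    obtain ⟨k, hk⟩ := h
    rw [hk] at h3
    exact ⟨k, by omega⟩
  have hconj := Cfsg.Agent.SmallSimple.SylowEight.isConj_of_card_sylow_eight hna h8d h16
  obtain ⟨t, ht⟩ : ∃ t : G, orderOf t = 2 := by
    apply exists_prime_orderOf_dvd_card'
    omega
  by_cases hF3 : (3 : F) ≠ 0 ∨ IsSquare (-1 : F)
  · obtain ⟨e⟩ := hc t ht
    have h3 : HasReal (Matrix.ProjectiveSpecialLinearGroup (Fin 2) F) := of_three (psl_real F hF3)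
    have h4 : HasReal (Multiplicative (ZMod 2) × Matrix.ProjectiveSpecialLinearGroup (Fin 2) F) :=
      h3.map (MonoidHom.inr _ _) (fun a b hab => (Prod.mk.inj hab).2)
    exact (h4.map e.symm.toMonoidHom e.symm.injective).map _ (Subgroup.subtype_injective _)
  · obtain ⟨f, hf⟩ := odd_pow_of hF3
    rcases hC G hab F (by omega) t ht (hc t ht) with ⟨m, hm, hF, hcard⟩ | ⟨h45, -⟩
    · have hodd : Odd (2 * m + 1) := ⟨m, rfl⟩
      obtain ⟨w, L, E, T, hS⟩ := Cfsg.Agent.Ree.Ward.exists_setup hodd hF ht (hc t ht) hconj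
        (fun P => (hsyl P).2) hcard
      obtain ⟨U, hU1, hU2, hU3, hU4⟩ := hS.exists_U
      have htt : t * t = 1 := by rw [← pow_two, ← ht, pow_orderOf_eq_one]
      have htU : t ∈ normalizer (U : Set G) := hU3 hS.t_mem_torus
      have hE : Nat.card E < Nat.card U := by
        rw [hS.card_E, hU4]
        have h3 : 1 < 3 ^ (2 * m + 1) := Nat.one_lt_pow (by omega) (by norm_num)
        exact lt_self_pow₀ h3 (by norm_num)
      obtain ⟨x, hxU, hx1, hx2⟩ := exists_real_of_act htt (Q := U)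
        (fun q hq => (mem_normalizer_iff.mp htU q).mp hq) (by
          by_contra hcon
          push Not at hcon
          have h5 : U ≤ E := fun q hq => hS.fixed_E hU1 hU2 hq (hcon q hq)
          exact absurd (Subgroup.card_le_of_le h5) (not_le.mpr hE))
      obtain ⟨k, hk⟩ := hU1 ⟨x, hxU⟩
      exact of_pow hx1 (k := k) (by simpa only [_root_.SubmonoidClass.mk_pow, _root_.OneMemClass.coe_one] using congrArg Subtype.val hk) hx2
    · exfalso
      rw [hf] at h45
      have h5 : Odd (3 ^ (2 * f + 1)) := Odd.pow (by decide)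
      rcases h45 with h | h
      · rw [h] at h5
        exact absurd h5 (by decide)
      · have h6 : 3 ∣ 5 := by rw [← h]; exact dvd_pow_self 3 (by omega)
        norm_num at h6

/-- `PSL₂(F)`. -/
theorem of_psl {G : Type*} [Group G] {F : Type} [Field F] [Fintype F] (h5 : 4 ≤ Fintype.card F)
    (e : G ≃* Matrix.ProjectiveSpecialLinearGroup (Fin 2) F) :
    HasReal G ∨ ∃ f : ℕ, 1 ≤ f ∧
      Nonempty (G ≃* Matrix.ProjectiveSpecialLinearGroup (Fin 2) (GaloisField 3 (2 * f + 1))) := by
  have : Fact (Nat.Prime 3) := ⟨Nat.prime_three⟩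
  by_cases hF3 : (3 : F) ≠ 0 ∨ IsSquare (-1 : F)
  · exact Or.inl ((of_three (psl_real F hF3)).map e.symm.toMonoidHom e.symm.injective)
  · obtain ⟨f, hf⟩ := odd_pow_of hF3
    right
    refine ⟨f, ?_, ?_⟩
    · rcases Nat.eq_zero_or_pos f with rfl | h
      · rw [hf] at h5; norm_num at h5
      · exact h
    · have hfin : Finite (GaloisField 3 (2 * f + 1)) := by
        apply Nat.finite_of_card_ne_zero
        rw [GaloisField.card 3 (2 * f + 1) (by omega)]
        positivity
      have : Fintype (GaloisField 3 (2 * f + 1)) := Fintype.ofFinite _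
      have hc : Fintype.card F = Fintype.card (GaloisField 3 (2 * f + 1)) := by
        rw [hf, ← Nat.card_eq_fintype_card (α := GaloisField 3 (2 * f + 1)),
          GaloisField.card 3 (2 * f + 1) (by omega)]
      exact ⟨e.trans (Cfsg.Agent.LieClassical.SmallIso.pslCongr (Fin 2)
        (FiniteField.ringEquivOfCardEq hc))⟩

/-- Simple groups with abelian Sylow 2-subgroups. -/
theorem of_wType (hC : CentThm.{u}) {G : Type u} [Group G] [Finite G] [IsSimpleGroup G]
    (hna : ¬ IsMulCommutative G) (h : _root_.Cfsg.Agent.Walter.Types.WType G) :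
    HasReal G ∨ ∃ f : ℕ, 1 ≤ f ∧
      Nonempty (G ≃* Matrix.ProjectiveSpecialLinearGroup (Fin 2) (GaloisField 3 (2 * f + 1))) := by
  rcases h with ⟨F, i1, i2, n, hn, hF, ⟨e⟩⟩ | ⟨F, i1, i2, hF, h5, ⟨e⟩⟩ | h
  · refine of_psl ?_ e
    rw [hF]
    calc 4 = 2 ^ 2 := by norm_num
      _ ≤ 2 ^ n := Nat.pow_le_pow_right (by norm_num) hn
  · exact of_psl (by omega) e
  · exact Or.inl (of_jr hC hna h)

/-- Simple groups with a strongly embedded subgroup (from the conclusion of Bender's theorem). -/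
theorem of_bender {G : Type*} [Group G]
    (h : (∃ (F : Type) (_ : Field F) (_ : Fintype F), CharP F 2 ∧ 4 ≤ Fintype.card F ∧
        Nonempty (G ≃* Matrix.ProjectiveSpecialLinearGroup (Fin 2) F)) ∨
      Cfsg.IsSuzuki G ∨
      (∃ (F : Type) (_ : Field F) (_ : Fintype F) (q : ℕ), Fintype.card F = q ^ 2 ∧ Even q ∧ 4 ≤ q ∧
        Nonempty (G ≃* Cfsg.PSU 3 F q))) :
    HasReal G ∨ Cfsg.IsSuzuki G ∨ ∃ f : ℕ, 1 ≤ f ∧
      Nonempty (G ≃* Matrix.ProjectiveSpecialLinearGroup (Fin 2) (GaloisField 3 (2 * f + 1))) := by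
  rcases h with ⟨F, i1, i2, -, h4, ⟨e⟩⟩ | h | ⟨F, i1, i2, q, hF, hq, -, ⟨e⟩⟩
  · rcases of_psl h4 e with h | h
    · exact Or.inl h
    · exact Or.inr (Or.inr h)
  · exact Or.inr (Or.inl h)
  · left
    have h2 : (2 : F) = 0 := by
      have h3 : ((Fintype.card F : ℕ) : F) = 0 := Nat.cast_card_eq_zero F
      rw [hF] at h3
      obtain ⟨r, rfl⟩ := hq
      rw [← two_mul] at h3
      push_cast at h3
      have h5 := pow_eq_zero_iff (two_ne_zero) |>.mp h3
      rcases mul_eq_zero.mp h5 with h6 | h6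
      · exact h6
      · -- `2` divides the characteristic
        obtain ⟨p, hp⟩ := CharP.exists F
        obtain ⟨m, hpp, hm⟩ := FiniteField.card F p
        have h7 : 2 ∣ p ^ (m : ℕ) := by
          rw [← hm, hF]
          exact (Dvd.intro _ (two_mul r)).trans (dvd_pow_self _ two_ne_zero)
        have hp2 : p = 2 := ((Nat.prime_dvd_prime_iff_eq Nat.prime_two hpp).mp
          (Nat.prime_two.dvd_of_dvd_pow h7)).symm
        subst hp2
        exact_mod_cast CharP.cast_eq_zero F 2
    exact (of_three (psu_real h2 q)).map e.symm.toMonoidHom e.symm.injective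

end Cfsg.Agent.H502.RealThree
end

-- part: H502/SFourClosed
section
/-!
# Sections isomorphic to `S₄`: strongly closed abelian 2-subgroups and real elements of order three

* `exists_stronglyClosed`: a group not involving `S₄` has a nontrivial abelian subgroup strongly closed in a
  Sylow 2-subgroup.
* `hasReal_of_involves`: a group involving `S₄` has a real element of order three.
-/

set_option autoImplicit false

namespace Cfsg.Agent.H502.SFourClosed

open Subgroup
open Cfsg.Agent.TwoFusion.S4FreeFunctor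
open Cfsg.Agent.Lib.Involves (Involves)
open Cfsg.Agent.H502.RealThree

universe u

theorem s4Free_of_not_involves {G : Type u} [Group G] (h : ¬ Involves G (Equiv.Perm (Fin 4))) :
    S4Free G := by
  rintro ⟨K, R, hR, ⟨e⟩⟩
  exact h ⟨K, e.toMonoidHom.comp (QuotientGroup.mk' (R.subgroupOf K)),
    e.surjective.comp (QuotientGroup.mk'_surjective _)⟩

/-- In a group not involving `S₄` the normalizer of `W(S)` controls the fusion of elements of `S`. -/
theorem exists_conj {G : Type u} [Group G] [Finite G] (h4 : ¬ Involves G (Equiv.Perm (Fin 4)))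
    (S : Sylow 2 G) (x : G) (hx : x ∈ (S : Subgroup G)) (g : G)
    (hg : g * x * g⁻¹ ∈ (S : Subgroup G)) :
    ∃ m ∈ Subgroup.normalizer (Wf (S : Subgroup G) : Set G), m * x * m⁻¹ = g * x * g⁻¹ := by
  have hWf : Cfsg.Agent.Transfer.FusionFunctor.IsSectionFunctor 2
      (fun (G : Type u) [Group G] (P : Subgroup G) => Wf P) :=
    ⟨fun G _ P => Wf_le P, fun G H _ _ _ _ f P _ hf => Wf_map f P hf,
      fun G _ _ P hp hP => Wf_ne_bot P hP hp⟩
  have key := Cfsg.Agent.Transfer.FusionFunctor.controls_fusion hWf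
    (fun G _ => ¬ Involves G (Equiv.Perm (Fin 4)))
    (fun G _ _ H h h' => h (Cfsg.Agent.Lib.Involves.of_subgroup h'))
    (fun G _ _ N _ h h' => h (Cfsg.Agent.Lib.Involves.of_quotient h'))
    (fun G _ _ h hC P => Wf_normal (s4Free_of_not_involves h) hC P)
    G h4 S (Subgroup.zpowers x) (by rwa [Subgroup.zpowers_le]) g (by
      rintro _ ⟨k, rfl⟩
      have : g * x ^ k * g⁻¹ = (g * x * g⁻¹) ^ k := by rw [conj_zpow]
      simp only [this]
      exact Subgroup.zpow_mem _ hg k)
  obtain ⟨m, hm, hm2⟩ := key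
  exact ⟨m, hm, hm2 x (Subgroup.mem_zpowers x)⟩

/-- A group of even order not involving `S₄` has a nontrivial abelian subgroup strongly closed in a Sylow
2-subgroup. -/
theorem exists_stronglyClosed {G : Type u} [Group G] [Finite G]
    (h4 : ¬ Involves G (Equiv.Perm (Fin 4)))
    (S : Sylow 2 G) (hS : (S : Subgroup G) ≠ ⊥) : ∃ A : Subgroup G, A ≠ ⊥ ∧ IsMulCommutative A ∧
      Cfsg.IsStronglyClosed A (S : Subgroup G) := by
  set W := Wf (S : Subgroup G) with hW
  have hWne : W ≠ ⊥ := Wf_ne_bot _ hS S.isPGroup'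
  have hWp : IsPGroup 2 W := S.isPGroup'.to_le (Wf_le _)
  have : Nontrivial W := (Subgroup.nontrivial_iff_ne_bot W).2 hWne
  refine ⟨(Subgroup.center W).map W.subtype, ?_, ?_, ?_, ?_⟩
  · intro h
    have h1 : Subgroup.center W = ⊥ :=
      (Subgroup.map_eq_bot_iff_of_injective _ W.subtype_injective).1 h
    have h2 : Nontrivial (Subgroup.center W) := hWp.center_nontrivial
    exact (Subgroup.nontrivial_iff_ne_bot _).1 h2 h1
  · refine ⟨⟨?_⟩⟩
    rintro ⟨_, ⟨a, ha, rfl⟩⟩ ⟨_, ⟨b, hb, rfl⟩⟩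
    apply Subtype.ext
    have := (Subgroup.mem_center_iff.1 ha b)
    exact (congrArg Subtype.val this).symm
  · exact (Subgroup.map_subtype_le _).trans (Wf_le _)
  · rintro _ ⟨a, ha, rfl⟩ g hg
    have haS : ((a : W) : G) ∈ (S : Subgroup G) := Wf_le _ a.2
    obtain ⟨m, hm, hm2⟩ := exists_conj h4 S (a : G) haS g hg
    rw [Subgroup.mem_normalizer_iff] at hm
    have hma : m * (a : G) * m⁻¹ ∈ W := (hm _).1 a.2
    refine ⟨⟨m * (a : G) * m⁻¹, hma⟩, ?_, hm2⟩
    rw [SetLike.mem_coe, Subgroup.mem_center_iff]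
    rintro ⟨w, hw⟩
    apply Subtype.ext
    have hw' : m⁻¹ * w * m ∈ W := by
      rw [hm]
      simpa [mul_assoc] using hw
    have h5 := congrArg Subtype.val (Subgroup.mem_center_iff.1 ha ⟨m⁻¹ * w * m, hw'⟩)
    simp only [Subgroup.coe_mul] at h5 ⊢
    calc w * (m * a * m⁻¹) = m * ((m⁻¹ * w * m) * a) * m⁻¹ := by group
      _ = m * (a * (m⁻¹ * w * m)) * m⁻¹ := by rw [h5]
      _ = m * a * m⁻¹ * w := by group

/-- A 2-element normalising but not centralising a 3-subgroup gives a real element of order three. -/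
theorem hasReal_of_act {G : Type*} [Group G] {Q : Subgroup G} (hQ : IsPGroup 3 Q) :
    ∀ (a : ℕ) (t : G), t ^ 2 ^ a = 1 → t ∈ normalizer (Q : Set G) → (∃ q ∈ Q, t * q ≠ q * t) →
      HasReal G := by
  intro a
  induction a with
  | zero =>
    rintro t ht - ⟨q, -, hq⟩
    rw [pow_zero, pow_one] at ht
    subst ht
    exact absurd (by simp) hq
  | succ a ih =>
    intro t ht htQ ⟨q, hq, hqt⟩
    by_cases h : ∃ q ∈ Q, (t * t) * q ≠ q * (t * t)
    · refine ih (t * t) ?_ (mul_mem htQ htQ) h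
      rw [← pow_two, ← pow_mul, ← pow_succ']
      exact ht
    · push Not at h
      -- `t²` centralises `Q`
      have hx : q⁻¹ * (t * q * t⁻¹) ∈ Q :=
        mul_mem (inv_mem hq) ((mem_normalizer_iff.mp htQ q).mp hq)
      obtain ⟨k, hk⟩ := hQ ⟨_, hx⟩
      refine of_pow (x := q⁻¹ * (t * q * t⁻¹)) (y := t) ?_ (k := k)
        (by simpa only [_root_.SubmonoidClass.mk_pow, _root_.OneMemClass.coe_one] using congrArg Subtype.val hk) ?_
      · intro h1
        rw [inv_mul_eq_one, eq_mul_inv_iff_mul_eq] at h1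
        exact hqt h1.symm
      · have h2 := h q hq
        have h3 : t * (q⁻¹ * (t * q * t⁻¹)) * t⁻¹ = (t * q⁻¹ * t⁻¹) * ((t * t) * q * (t * t)⁻¹) := by
          group
        rw [h3, h2]
        group

/-- A group mapping onto a group `Y` with elements `s` of order three and `r` with `r s r⁻¹ = s⁻¹` has a
real element of order three, if `r² = 1`. -/
theorem hasReal_of_surj {K Y : Type*} [Group K] [Finite K] [Group Y] (φ : K →* Y)
    (hφ : Function.Surjective φ) {s r : Y} (hs : orderOf s = 3) (hr : r * r = 1)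
    (hrs : r * s * r⁻¹ = s⁻¹) : HasReal K := by
  have : Fact (Nat.Prime 3) := ⟨Nat.prime_three⟩
  -- `A = φ⁻¹(⟨s⟩)` and a Sylow 3-subgroup of it
  set A : Subgroup K := (zpowers s).comap φ with hA
  obtain ⟨Q, -, hQA, hQ, hQi⟩ := Cfsg.Agent.Lib.GoldschmidtFusion.exists_sylow_in (p := 3) (N := A)
    (D := ⊥) bot_le IsPGroup.of_bot
  obtain ⟨b, hb⟩ := hφ r
  have hbA : A.map (MulAut.conj b).toMonoidHom = A := by
    have h1 : A.map (MulAut.conj b).toMonoidHom ≤ A := by
      rintro _ ⟨x, hx, rfl⟩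
      change b * x * b⁻¹ ∈ A
      rw [hA, mem_comap, map_mul, map_mul, map_inv, hb]
      rw [SetLike.mem_coe, hA, mem_comap] at hx
      obtain ⟨k, hk⟩ := mem_zpowers_iff.mp hx
      rw [← hk, ← conj_zpow, hrs]
      exact zpow_mem (inv_mem (mem_zpowers s)) k
    refine Subgroup.eq_of_le_of_card_ge h1 ?_
    exact (Nat.card_congr (A.equivMapOfInjective _ (MulAut.conj b).injective).toEquiv).le
  -- Frattini
  obtain ⟨k, hkA, hk⟩ := Cfsg.Agent.LFourB.RelExt.frattini hQ hQA hQi hbA
  have hn : k * b ∈ normalizer (Q : Set K) := mem_normalizer_iff_map_conj_eq.mpr hk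
  -- the action of `φ (k * b)` on `⟨s⟩`
  have hks : φ k * s = s * φ k := by
    rw [hA, mem_comap] at hkA
    obtain ⟨j, hj⟩ := mem_zpowers_iff.mp hkA
    rw [← hj]
    exact ((Commute.refl s).zpow_left j).eq
  have hns : φ (k * b) * s * (φ (k * b))⁻¹ = s⁻¹ := by
    rw [map_mul, hb, mul_inv_rev]
    calc φ k * r * s * (r⁻¹ * (φ k)⁻¹) = φ k * (r * s * r⁻¹) * (φ k)⁻¹ := by group
      _ = φ k * s⁻¹ * (φ k)⁻¹ := by rw [hrs]
      _ = (φ k * s * (φ k)⁻¹)⁻¹ := by group
      _ = s⁻¹ := by rw [hks]; group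
  have hn2 : φ (k * b) * φ (k * b) = 1 := by
    rw [map_mul, hb]
    have h1 : r * φ k * r⁻¹ = (φ k)⁻¹ := by
      rw [hA, mem_comap] at hkA
      obtain ⟨j, hj⟩ := mem_zpowers_iff.mp hkA
      rw [← hj, ← conj_zpow, hrs, inv_zpow]
    calc φ k * r * (φ k * r) = φ k * (r * φ k * r⁻¹) * (r * r) := by group
      _ = 1 := by rw [h1, hr]; group
  -- `Q` maps onto `⟨s⟩`
  obtain ⟨q, hqQ, hqs⟩ : ∃ q ∈ Q, φ q = s := by
    have h1 : Q.map φ ≤ zpowers s := by
      rw [map_le_iff_le_comap]; exact hQA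
    have h2 : Q.map φ ≠ ⊥ := by
      intro h3
      apply hQi
      have h4 : Q ≤ φ.ker := (Subgroup.map_eq_bot_iff Q).mp h3
      have h5 : φ.ker ≤ A := by
        intro x hx
        rw [hA, mem_comap, (MonoidHom.mem_ker).mp hx]
        exact one_mem _
      have h6 : φ.ker.relIndex A = 3 := by
        rw [Subgroup.relIndex_ker, hA, Subgroup.map_comap_eq_self_of_surjective hφ, Nat.card_zpowers, hs]
      rw [← Subgroup.relIndex_mul_relIndex Q φ.ker A h4 h5, h6]
      exact dvd_mul_left _ _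
    have h3 : Q.map φ = zpowers s := by
      have h4 : Nat.card (Q.map φ) ∣ 3 := by
        have h5 := Subgroup.card_dvd_of_le h1
        rwa [Nat.card_zpowers, hs] at h5
      rcases (Nat.dvd_prime Nat.prime_three).mp h4 with h5 | h5
      · exact absurd (Subgroup.eq_bot_of_card_eq _ h5) h2
      · have hfz : Finite (zpowers s) := by
          apply Nat.finite_of_card_ne_zero
          rw [Nat.card_zpowers, hs]; norm_num
        exact Subgroup.eq_of_le_of_card_ge h1 (by rw [h5, Nat.card_zpowers, hs])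
    have h4 : s ∈ Q.map φ := by rw [h3]; exact mem_zpowers s
    exact h4
  -- the 2-part
  obtain ⟨a, m, hm, hnm⟩ := Nat.exists_eq_pow_mul_and_not_dvd (orderOf_pos (k * b)).ne' 2 (by norm_num)
  have hφm : φ ((k * b) ^ m) = φ (k * b) := by
    obtain ⟨j, hj⟩ : Odd m := by
      rw [← Nat.not_even_iff_odd, even_iff_two_dvd]; exact hm
    rw [map_pow, hj, pow_succ, pow_mul, pow_two, hn2, one_pow, one_mul]
  refine hasReal_of_act hQ a ((k * b) ^ m) ?_ (pow_mem hn m) ⟨q, hqQ, ?_⟩
  · rw [← pow_mul, mul_comm, ← hnm, pow_orderOf_eq_one]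
  · intro h1
    have h2 := congrArg φ h1
    rw [map_mul, map_mul, hφm, hqs] at h2
    have h3 : s = s⁻¹ := by
      rw [← hns, h2]; group
    have h4 : s ^ 2 = 1 := by
      rw [pow_two]
      nth_rewrite 2 [h3]
      group
    have h5 := orderOf_dvd_of_pow_eq_one h4
    rw [hs] at h5
    norm_num at h5

/-- A finite group involving `S₄` has a real element of order three. -/
theorem hasReal_of_involves {G : Type*} [Group G] [Finite G]
    (h : Involves G (Equiv.Perm (Fin 4))) : HasReal G := by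
  obtain ⟨K, φ, hφ⟩ := h
  refine (hasReal_of_surj (K := K) φ hφ (s := (Equiv.swap 0 1) * (Equiv.swap 1 2))
    (r := Equiv.swap 0 1) ?_ (by decide) (by decide)).map K.subtype K.subtype_injective
  rw [orderOf_eq_prime_iff]
  exact ⟨by decide, by decide⟩

end Cfsg.Agent.H502.SFourClosed
end
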