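import Mathlib
import Cfsg.Agent.Prune
set_option linter.all false
prune_inst 0x7f00000000000000000000000000000000000000000000000000000000000000000000000000000000000000000000000000000000000000000000000000000000000000000000000000000000000000003fffffffffffffffffffffffffffbeffbdffffffff
open scoped Cfsg.Agent.FastGrp

/-!
# Groups in which `N(⟨x⟩) = C(x)` for all `p`-elements `x`: elementary consequences

* `mem_normalizer_zpowers`: in a finite group, `n x n⁻¹ ∈ ⟨x⟩` implies `n ∈ N(⟨x⟩)`.
* `irr_of_mulEquiv`: the property is invariant under isomorphism.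
* `irr_elem`: the elementwise form.
* `comm_of_involutions`: for the prime 2, commuting of involutions generating a 2-group.
-/

set_option autoImplicit false

namespace Cfsg.Agent.H502

open Subgroup

/-- In a finite group, `n x n⁻¹ ∈ ⟨x⟩` implies `n ∈ N(⟨x⟩)`. -/
theorem mem_normalizer_zpowers {G : Type*} [Group G] [Finite G] {x n : G}
    (h : n * x * n⁻¹ ∈ zpowers x) : n ∈ normalizer ((zpowers x : Subgroup G) : Set G) := by
  have hle : (zpowers x).map (MulAut.conj n).toMonoidHom ≤ zpowers x := by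
    rw [MonoidHom.map_zpowers, zpowers_le]
    exact h
  have hcard : Nat.card ((zpowers x).map (MulAut.conj n).toMonoidHom : Subgroup G) =
      Nat.card (zpowers x) :=
    Nat.card_congr ((zpowers x).equivMapOfInjective _ (MulAut.conj n).injective).toEquiv.symm
  have heq := Subgroup.eq_of_le_of_card_ge hle hcard.ge
  rw [mem_normalizer_iff_map_conj_eq]
  exact heq

/-- The elementwise form of `N(⟨x⟩) ≤ C(x)`. -/
theorem irr_elem {G : Type*} [Group G] [Finite G] {x n : G}
    (hirr : normalizer ((zpowers x : Subgroup G) : Set G) ≤ centralizer {x})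
    (h : n * x * n⁻¹ ∈ zpowers x) : n * x = x * n := by
  have h1 := hirr (mem_normalizer_zpowers h)
  rwa [mem_centralizer_singleton_iff] at h1

/-- The property `N(⟨x⟩) ≤ C(x)` for all `π`-elements is invariant under isomorphism. -/
theorem irr_of_mulEquiv {G H : Type*} [Group G] [Group H] [Finite G] (e : G ≃* H) {π : ℕ → Prop}
    (hirr : ∀ x : G, (∀ r : ℕ, r.Prime → r ∣ orderOf x → π r) →
      normalizer ((zpowers x : Subgroup G) : Set G) ≤ centralizer {x})
    (x : H) (hx : ∀ r : ℕ, r.Prime → r ∣ orderOf x → π r) :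
    normalizer ((zpowers x : Subgroup H) : Set H) ≤ centralizer {x} := by
  intro n hn
  have h1 : n * x * n⁻¹ ∈ zpowers x := (mem_normalizer_iff.mp hn x).mp (mem_zpowers x)
  have h2 : e.symm n * e.symm x * (e.symm n)⁻¹ ∈ zpowers (e.symm x) := by
    rw [← map_mul, ← map_inv, ← map_mul]
    obtain ⟨k, hk⟩ := mem_zpowers_iff.mp h1
    rw [← hk, map_zpow]
    exact zpow_mem (mem_zpowers _) k
  have h3 : ∀ r : ℕ, r.Prime → r ∣ orderOf (e.symm x) → π r := by
    intro r hr hrx
    rw [MulEquiv.orderOf_eq] at hrx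
    exact hx r hr hrx
  have h4 := irr_elem (hirr _ h3) h2
  rw [mem_centralizer_singleton_iff]
  apply e.symm.injective
  rw [map_mul, map_mul]
  exact h4

/-- A `p`-element of a `p`-subgroup. -/
theorem prime_dvd_of_mem {G : Type*} [Group G] {p : ℕ} (hp : p.Prime) {P : Subgroup G}
    (hP : IsPGroup p P) {x : G} (hx : x ∈ P) : ∀ r : ℕ, r.Prime → r ∣ orderOf x → r = p := by
  have : Fact p.Prime := ⟨hp⟩
  intro r hr hrx
  obtain ⟨k, hk⟩ := IsPGroup.iff_orderOf.mp hP ⟨x, hx⟩
  have h1 : orderOf x = p ^ k := by rw [← hk, Subgroup.orderOf_mk]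
  rw [h1] at hrx
  exact (Nat.prime_dvd_prime_iff_eq hr hp).mp (hr.dvd_of_dvd_pow hrx)

/-- For the prime 2: two elements of a 2-subgroup which square to one commute. -/
theorem comm_of_involutions {G : Type*} [Group G] [Finite G]
    (hirr : ∀ x : G, (∀ r : ℕ, r.Prime → r ∣ orderOf x → r = 2) →
      normalizer ((zpowers x : Subgroup G) : Set G) ≤ centralizer {x})
    {S : Subgroup G} (hS : IsPGroup 2 S) {u v : G} (hu : u ∈ S) (hv : v ∈ S)
    (hu2 : u * u = 1) (hv2 : v * v = 1) : u * v = v * u := by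
  have hui : u⁻¹ = u := inv_eq_of_mul_eq_one_right hu2
  have hvi : v⁻¹ = v := inv_eq_of_mul_eq_one_right hv2
  have hx := hirr (u * v) (prime_dvd_of_mem Nat.prime_two hS (mul_mem hu hv))
  have h1 : u * (u * v) * u⁻¹ ∈ zpowers (u * v) := by
    have : u * (u * v) * u⁻¹ = (u * v)⁻¹ := by
      rw [mul_inv_rev, hui, hvi, ← mul_assoc u u v, hu2, one_mul]
    rw [this]
    exact inv_mem (mem_zpowers _)
  have h2 := irr_elem hx h1
  rw [← mul_assoc, hu2, one_mul, mul_assoc] at h2
  -- `v = u * (v * u)`
  calc u * v = u * (u * (v * u)) := by rw [← h2]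
    _ = v * u := by rw [← mul_assoc, hu2, one_mul]

end Cfsg.Agent.H502
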